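import Groth.Agent.FormalCplLib.Alg

/-! Adic completion of a finite module along an ideal enlarged by one element. -/

set_option autoImplicit false

universe u

open AdicCompletion

namespace Groth.Agent.FormalCplLib

variable {A : Type u} [CommRing A] {J J' : Ideal A} (hJJ : J ≤ J') (M : Type u) [AddCommGroup M] [Module A M]

include hJJ in
theorem pow_smul_top_mono (n : ℕ) : (J ^ n • ⊤ : Submodule A M) ≤ J' ^ n • ⊤ :=
  Submodule.smul_mono_left (Ideal.pow_right_mono hJJ n)

/-- The map between completions for comparable ideals. -/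
def factorMap : AdicCompletion J M →ₗ[A] AdicCompletion J' M where
  toFun x := ⟨fun n => Submodule.factor (pow_smul_top_mono hJJ M n) (x.val n), fun {m n} hmn => by
    obtain ⟨y, hy⟩ := Submodule.Quotient.mk_surjective _ (x.val n)
    have h := x.property hmn
    rw [← hy] at h
    dsimp only
    rw [← hy, ← h]
    rfl⟩
  map_add' x y := AdicCompletion.ext fun n => map_add _ (x.val n) (y.val n)
  map_smul' r x := AdicCompletion.ext fun n => LinearMap.map_smul _ r (x.val n)

theorem factorMap_val (x : AdicCompletion J M) (n : ℕ) :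
    (factorMap hJJ M x).val n = Submodule.factor (pow_smul_top_mono hJJ M n) (x.val n) := rfl

theorem factorMap_of (x : M) : factorMap hJJ M (AdicCompletion.of J M x) = AdicCompletion.of J' M x :=
  AdicCompletion.ext fun _ => rfl

variable [IsNoetherianRing A] [Module.Finite A M] (f : A)

theorem map_smul_eq (I : Ideal A) (a : ℕ) (x : AdicCompletion I M) :
    AdicCompletion.map I (f ^ a • LinearMap.id : M →ₗ[A] M) x = f ^ a • x := by
  refine AdicCompletion.ext fun n => ?_
  obtain ⟨y, hy⟩ := Submodule.Quotient.mk_surjective _ (x.val n)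
  rw [AdicCompletion.map_val_apply, AdicCompletion.val_smul, Pi.smul_apply, ← hy]
  rfl

/-- Membership in the multiples of a power of `f` is read level by level. -/
theorem exists_smul_of_forall (I : Ideal A) (a : ℕ) (x : AdicCompletion I M)
    (h : ∀ n, ∃ v, x.val n = f ^ a • v) : ∃ y, x = f ^ a • y := by
  let φ : M →ₗ[A] M := f ^ a • LinearMap.id
  have hex : Function.Exact (LinearMap.range φ).subtype (LinearMap.range φ).mkQ :=
    LinearMap.exact_subtype_mkQ _
  obtain ⟨y', hy'⟩ := (AdicCompletion.map_exact (I := I) (Submodule.injective_subtype _) hex (Submodule.mkQ_surjective _) x).1 (by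
    refine AdicCompletion.ext fun n => ?_
    obtain ⟨v, hv⟩ := h n
    obtain ⟨w, rfl⟩ := Submodule.Quotient.mk_surjective _ v
    rw [AdicCompletion.map_val_apply, hv]
    show Submodule.Quotient.mk ((LinearMap.range φ).mkQ (f ^ a • w)) = 0
    rw [show (LinearMap.range φ).mkQ (f ^ a • w) = 0 from (Submodule.Quotient.mk_eq_zero _).2 ⟨w, rfl⟩]
    exact Submodule.Quotient.mk_zero _)
  obtain ⟨y, rfl⟩ := AdicCompletion.map_surjective I φ.surjective_rangeRestrict y'
  refine ⟨y, ?_⟩
  rw [← hy', ← map_smul_eq, ← LinearMap.comp_apply, AdicCompletion.map_comp]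
  rfl

theorem bddTors (I : Ideal A) : BddTors f (AdicCompletion I M) := by
  let φ : ℕ → (M →ₗ[A] M) := fun a => f ^ a • LinearMap.id
  obtain ⟨c, hc⟩ := monotone_stabilizes_iff_noetherian.2 (inferInstance : IsNoetherian A M)
    ⟨fun a => LinearMap.ker (φ a), monotone_nat_of_le_succ fun a x hx => by
      have hx' : f ^ a • x = 0 := hx
      show f ^ (a + 1) • x = 0
      rw [pow_succ', mul_smul, hx', smul_zero]⟩
  refine ⟨c, fun a x hx => ?_⟩
  have hM : ∀ y : LinearMap.ker (φ a), f ^ c • (y : M) = 0 := by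
    intro y
    rcases le_total a c with h | h
    · obtain ⟨d, rfl⟩ := Nat.exists_eq_add_of_le h
      rw [add_comm, pow_add, mul_smul, show f ^ a • (y : M) = 0 from y.2, smul_zero]
    · have e := hc a h
      have hy : (y : M) ∈ LinearMap.ker (φ c) := by
        change LinearMap.ker (φ c) = LinearMap.ker (φ a) at e
        rw [e]; exact y.2
      exact hy
  have hexact : Function.Exact (AdicCompletion.map I (LinearMap.ker (φ a)).subtype) (AdicCompletion.map I (φ a)) := by
    intro z
    have hex : Function.Exact (LinearMap.ker (φ a)).subtype (φ a).rangeRestrict := by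
      intro w
      constructor
      · intro hw; exact ⟨⟨w, congrArg Subtype.val hw⟩, rfl⟩
      · rintro ⟨w', rfl⟩; exact Subtype.ext w'.2
    have e1 : AdicCompletion.map I (φ a) =
        (AdicCompletion.map I (LinearMap.range (φ a)).subtype).comp (AdicCompletion.map I (φ a).rangeRestrict) := by
      rw [AdicCompletion.map_comp]; rfl
    rw [← AdicCompletion.map_exact (I := I) (Submodule.injective_subtype _) hex (φ a).surjective_rangeRestrict z, e1, LinearMap.comp_apply]
    constructor
    · intro h
      exact AdicCompletion.map_injective I (Submodule.injective_subtype _) (by rw [h, _root_.map_zero])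
    · intro h; rw [h, _root_.map_zero]
  obtain ⟨y, rfl⟩ := (hexact x).1 (by rw [map_smul_eq, hx])
  rw [← LinearMap.map_smul_of_tower]
  refine AdicCompletion.ext fun n => ?_
  obtain ⟨w, hw⟩ := Submodule.Quotient.mk_surjective _ (y.val n)
  rw [AdicCompletion.map_val_apply, AdicCompletion.val_smul, Pi.smul_apply, ← hw]
  show Submodule.Quotient.mk ((f ^ c • w : LinearMap.ker (φ a)) : M) = 0
  rw [show ((f ^ c • w : LinearMap.ker (φ a)) : M) = 0 from hM w]
  exact Submodule.Quotient.mk_zero _

theorem factorMap_fcompl (hJ' : J' = J ⊔ Ideal.span {f}) : FCompl f (factorMap hJJ M) := by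
  have hf : f ∈ J' := hJ' ▸ Ideal.mem_sup_right (Ideal.mem_span_singleton_self f)
  have hdec : ∀ (n a : ℕ) (x : M), x ∈ (J' ^ (n + a) • ⊤ : Submodule A M) →
      ∃ u ∈ (J ^ n • ⊤ : Submodule A M), ∃ v, x = u + f ^ a • v := by
    intro n a x hx
    have h2 : x ∈ ((J ^ n ⊔ Ideal.span {f ^ a}) • ⊤ : Submodule A M) :=
      Submodule.smul_mono_left (by rw [hJ', ← Ideal.span_singleton_pow]; exact Ideal.sup_pow_add_le_pow_sup_pow) hx
    rw [Submodule.sup_smul, Submodule.mem_sup] at h2
    obtain ⟨u, hu, w, hw, rfl⟩ := h2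
    rw [Submodule.ideal_span_singleton_smul, Submodule.mem_smul_pointwise_iff_exists] at hw
    obtain ⟨v, -, rfl⟩ := hw
    exact ⟨u, hu, v, rfl⟩
  refine ⟨fun a x z e => ?_, fun a z => ?_, fun z hz => ?_, fun s hs => ?_⟩
  · refine exists_smul_of_forall M f J a x fun n => ?_
    obtain ⟨p, hp⟩ := Submodule.Quotient.mk_surjective _ (x.val (n + a))
    obtain ⟨q, hq⟩ := Submodule.Quotient.mk_surjective _ (z.val (n + a))
    have e' := congrArg (fun t : AdicCompletion J' M => t.val (n + a)) e
    simp only [factorMap_val, AdicCompletion.val_smul, Pi.smul_apply, ← hp, ← hq] at e'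
    have hmem : p - f ^ a • q ∈ (J' ^ (n + a) • ⊤ : Submodule A M) := (Submodule.Quotient.eq _).1 e'
    obtain ⟨u, hu, v, huv⟩ := hdec n a _ hmem
    refine ⟨Submodule.Quotient.mk (v + q), ?_⟩
    rw [← x.property (Nat.le_add_right n a), ← hp]
    show Submodule.Quotient.mk p = Submodule.Quotient.mk (f ^ a • (v + q))
    rw [Submodule.Quotient.eq, smul_add]
    have hp' : p - (f ^ a • v + f ^ a • q) = u := by
      rw [sub_eq_iff_eq_add] at huv
      rw [huv]; abel
    rw [hp']; exact hu
  · let φ : M →ₗ[A] M := f ^ a • LinearMap.id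
    choose p hp using fun n => Submodule.Quotient.mk_surjective _ (z.val n)
    let yv : ∀ n, (M ⧸ LinearMap.range φ) ⧸ (J ^ n • ⊤ : Submodule A (M ⧸ LinearMap.range φ)) :=
      fun n => Submodule.Quotient.mk ((LinearMap.range φ).mkQ (p (n + a)))
    have hcomp : ∀ {m n : ℕ} (h : m ≤ n), p (n + a) - p (m + a) ∈ (J' ^ (m + a) • ⊤ : Submodule A M) := by
      intro m n h
      have h' := z.property (Nat.add_le_add_right h a)
      rw [← hp, ← hp] at h'
      exact (Submodule.Quotient.eq _).1 h'
    have hyc : ∀ {m n : ℕ} (h : m ≤ n), AdicCompletion.transitionMap J (M ⧸ LinearMap.range φ) h (yv n) = yv m := by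
      intro m n h
      obtain ⟨u, hu, v, huv⟩ := hdec m a _ (hcomp h)
      show Submodule.Quotient.mk ((LinearMap.range φ).mkQ (p (n + a))) = Submodule.Quotient.mk _
      rw [Submodule.Quotient.eq, ← map_sub, huv, map_add,
        show (LinearMap.range φ).mkQ (f ^ a • v) = 0 from (Submodule.Quotient.mk_eq_zero _).2 ⟨v, rfl⟩, add_zero]
      have hle : Submodule.map (LinearMap.range φ).mkQ (J ^ m • ⊤) ≤ J ^ m • ⊤ := by
        rw [Submodule.map_smul'']; exact Submodule.smul_mono le_rfl le_top
      exact hle ⟨u, hu, rfl⟩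
    obtain ⟨x, hx⟩ := AdicCompletion.map_surjective J (Submodule.mkQ_surjective (LinearMap.range φ)) ⟨yv, hyc⟩
    suffices hlev : ∀ n, ∃ v, (z - factorMap hJJ M x).val n = f ^ a • v by
      obtain ⟨w, hw⟩ := exists_smul_of_forall M f J' a _ hlev
      exact ⟨x, w, by rw [← hw, add_sub_cancel]⟩
    intro n
    obtain ⟨q, hq⟩ := Submodule.Quotient.mk_surjective _ (x.val n)
    have hxn := congrArg (fun t : AdicCompletion J _ => t.val n) hx
    simp only [AdicCompletion.map_val_apply, ← hq, yv] at hxn
    have hmem : (LinearMap.range φ).mkQ (q - p (n + a)) ∈ (J ^ n • ⊤ : Submodule A (M ⧸ LinearMap.range φ)) := by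
      rw [map_sub]; exact (Submodule.Quotient.eq _).1 hxn
    have e : (J ^ n • ⊤ : Submodule A (M ⧸ LinearMap.range φ)) =
        Submodule.map (LinearMap.range φ).mkQ (J ^ n • ⊤) := by
      rw [Submodule.map_smul'', Submodule.map_top, Submodule.range_mkQ]
    rw [e] at hmem
    obtain ⟨u, hu, hu'⟩ := hmem
    obtain ⟨v, hv⟩ := (Submodule.Quotient.eq _).1 hu'
    refine ⟨Submodule.Quotient.mk v, ?_⟩
    have hzn : z.val n = Submodule.Quotient.mk (p (n + a)) := by
      rw [← z.property (Nat.le_add_right n a), ← hp]; rfl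
    rw [AdicCompletion.val_sub, Pi.sub_apply, hzn, factorMap_val, ← hq]
    show Submodule.Quotient.mk (p (n + a) - q) = Submodule.Quotient.mk (f ^ a • v)
    rw [show f ^ a • v = u - (q - p (n + a)) from hv, Submodule.Quotient.eq,
      show p (n + a) - q - (u - (q - p (n + a))) = -u by abel]
    exact neg_mem (pow_smul_top_mono hJJ M n hu)
  · refine AdicCompletion.ext fun n => ?_
    obtain ⟨z', rfl⟩ := hz n
    obtain ⟨q, hq⟩ := Submodule.Quotient.mk_surjective _ (z'.val n)
    rw [AdicCompletion.val_smul, Pi.smul_apply, ← hq]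
    exact (Submodule.Quotient.mk_eq_zero _).2 (Submodule.smul_mem_smul (Ideal.pow_mem_pow hf n) trivial)
  · have hv : ∀ {m n : ℕ}, m ≤ n → ∀ k : ℕ, k ≤ m → (factorMap hJJ M (s n)).val k = (factorMap hJJ M (s m)).val k := by
      intro m n hmn k hk
      obtain ⟨v, hv⟩ := sub_smul_mem hs hmn
      have e := congrArg (fun t => (factorMap hJJ M t).val k) hv
      simp only [map_sub, map_smul, AdicCompletion.val_sub, Pi.sub_apply, AdicCompletion.val_smul, Pi.smul_apply] at e
      obtain ⟨q, hq⟩ := Submodule.Quotient.mk_surjective _ ((factorMap hJJ M v).val k)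
      rw [← hq] at e
      refine sub_eq_zero.1 (e.trans ((Submodule.Quotient.mk_eq_zero _).2 ?_))
      exact Submodule.smul_mem_smul (Ideal.pow_le_pow_right hk (Ideal.pow_mem_pow hf m)) trivial
    refine ⟨⟨fun n => (factorMap hJJ M (s n)).val n, fun {m n} h => ?_⟩, fun a => exists_smul_of_forall M f J' a _ fun n => ?_⟩
    · rw [(factorMap hJJ M (s n)).property h, hv h m le_rfl]
    rcases le_total a n with h | h
    · obtain ⟨v, hv'⟩ := sub_smul_mem hs h
      refine ⟨(factorMap hJJ M v).val n, ?_⟩
      have e := congrArg (fun t => (factorMap hJJ M t).val n) hv'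
      simp only [map_sub, map_smul] at e
      exact e
    · refine ⟨0, ?_⟩
      rw [smul_zero]
      show (factorMap hJJ M (s n)).val n - (factorMap hJJ M (s a)).val n = 0
      rw [sub_eq_zero]
      exact (hv h n le_rfl).symm

end Groth.Agent.FormalCplLib
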