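import Groth.Agent.FormalCplLib.Sheaf
import Groth.Agent.QFormalLim.Milnor
import Groth.Agent.CohBase.Affine

/-! Derived completeness of the cohomology of completed sheaves. -/

set_option autoImplicit false
set_option linter.style.haveILetI false
set_option backward.isDefEq.respectTransparency false
set_option maxHeartbeats 800000

universe u

open CategoryTheory CategoryTheory.Limits AlgebraicGeometry TopologicalSpace Opposite
open Groth.Agent.CohBase

noncomputable section

namespace Groth.Agent.FormalCplLib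

variable {X : Scheme.{u}} (L : AbSh X) (s : L ⟶ L)

/-- A map applied to a fixed class, additively in the map. -/
def hmapHom {U : X.Opens} {P Q : AbSh X} (n : ℕ) (x : HU U P n) : (P ⟶ Q) →+ HU U Q n :=
  AddMonoidHom.mk' (fun φ => hmap U φ n x) fun a b => by
    show x.comp (Abelian.Ext.mk₀ (a + b)) (add_zero n) = _
    rw [Abelian.Ext.mk₀_add, Abelian.Ext.comp_add]
    rfl

instance : HasFiniteBiproducts (AbSh X) := Abelian.hasFiniteBiproducts

/-- Finite powers. -/
abbrev pw (n : ℕ) : AbSh X := ⨁ fun _ : Fin (n + 1) => L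

/-- Forgetting the last factor. -/
def pr (n : ℕ) : pw L (n + 1) ⟶ pw L n := biproduct.lift fun k => biproduct.π _ k.castSucc

/-- The tower of powers. -/
abbrev pwF : ℕᵒᵖ ⥤ AbSh X := Functor.ofOpSequence (X := pw L) (pr L)

theorem pwF_map (n : ℕ) : (pwF L).map (homOfLE (Nat.le_succ n)).op = pr L n :=
  Functor.ofOpSequence_map_homOfLE_succ _ n

/-- A component. -/
def comp (k : ℕ) : limit (pwF L) ⟶ L := limit.π (pwF L) (op k) ≫ biproduct.π _ (Fin.last k)

theorem π_eq (n : ℕ) : ∀ k : Fin (n + 1), limit.π (pwF L) (op n) ≫ biproduct.π _ k = comp L k := by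
  induction n with
  | zero => intro k; rw [show k = Fin.last 0 from Fin.ext (by omega)]; rfl
  | succ n ih =>
    intro k
    induction k using Fin.lastCases with
    | last => rfl
    | cast k =>
      rw [show (k.castSucc : ℕ) = k from rfl, ← ih k, ← limit.w (pwF L) (homOfLE (Nat.le_succ n)).op, pwF_map,
        Category.assoc]
      refine congrArg (limit.π (pwF L) (op (n + 1)) ≫ ·) ?_
      rw [pr, biproduct.lift_π]

theorem exists_family {T : AbSh X} (w : ℕ → (T ⟶ L)) : ∃ g : T ⟶ limit (pwF L), ∀ k, g ≫ comp L k = w k := by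
  let c : Cone (pwF L) := Cone.mk T
    (NatTrans.ofOpSequence (G := pwF L) (F := (Functor.const ℕᵒᵖ).obj T)
      (fun n => biproduct.lift fun k : Fin (n + 1) => w k) fun n => by
        rw [pwF_map]
        refine (Category.id_comp _).trans (biproduct.hom_ext _ _ fun k => ?_)
        rw [Category.assoc, pr, biproduct.lift_π, biproduct.lift_π, biproduct.lift_π]
        rfl)
  refine ⟨limit.lift _ c, fun k => ?_⟩
  rw [comp, limit.lift_π_assoc]
  show biproduct.lift (fun j : Fin (k + 1) => w j) ≫ biproduct.π (fun _ : Fin (k + 1) => L) (Fin.last k) = w k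
  exact biproduct.lift_π _ _

theorem hom_ext_comp {T : AbSh X} {g g' : T ⟶ limit (pwF L)} (h : ∀ k, g ≫ comp L k = g' ≫ comp L k) : g = g' := by
  refine limit.hom_ext fun n => ?_
  obtain ⟨n⟩ := n
  refine biproduct.hom_ext _ _ fun k => ?_
  simp only [Category.assoc, π_eq]
  exact h k

theorem subsingleton_HU_pw (U : X.Opens) (q : ℕ) [Subsingleton (HU U L q)] (n : ℕ) :
    Subsingleton (HU U (pw L n) q) := by
  refine subsingleton_of_forall_eq 0 fun x => ?_
  have e : 𝟙 (pw L n) = ∑ k : Fin (n + 1), biproduct.π _ k ≫ biproduct.ι (fun _ : Fin (n + 1) => L) k :=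
    biproduct.total.symm
  rw [← Abelian.Ext.comp_mk₀_id x, e]
  show (hmapHom q x) _ = 0
  rw [map_sum]
  refine Finset.sum_eq_zero fun k _ => ?_
  show x.comp (Abelian.Ext.mk₀ (biproduct.π _ k ≫ biproduct.ι (fun _ : Fin (n + 1) => L) k)) (add_zero q) = 0
  rw [← Abelian.Ext.mk₀_comp_mk₀, ← Abelian.Ext.comp_assoc_of_third_deg_zero,
    Subsingleton.elim (x.comp (Abelian.Ext.mk₀ (biproduct.π _ k)) (add_zero q)) 0, Abelian.Ext.zero_comp]

/-- Unique solvability of `z k = y k + s z (k+1)` among morphisms. -/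
def Solvable : Prop :=
  ∀ (T : AbSh X) (y : ℕ → (T ⟶ L)), ∃! z : ℕ → (T ⟶ L), ∀ k, z k = y k + z (k + 1) ≫ s

theorem hmap_comp_apply {U : X.Opens} {P Q R : AbSh X} (a : P ⟶ Q) (b : Q ⟶ R) (q : ℕ) (x : HU U P q) :
    hmap U b q (hmap U a q x) = hmap U (a ≫ b) q x := by
  show (x.comp (Abelian.Ext.mk₀ a) (add_zero q)).comp (Abelian.Ext.mk₀ b) (add_zero q) = _
  rw [Abelian.Ext.comp_assoc_of_third_deg_zero, Abelian.Ext.mk₀_comp_mk₀]
  rfl

theorem hmap_sub {U : X.Opens} {P Q : AbSh X} (a b : P ⟶ Q) (q : ℕ) (x : HU U P q) :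
    hmap U (a - b) q x = hmap U a q x - hmap U b q x :=
  map_sub (hmapHom q x) a b

theorem exists_unique_series (hs : Solvable L s) (hac : ∀ V : X.Opens, IsAffineOpen V → ∀ i, Subsingleton (HU V L (i + 1)))
    (q : ℕ) (y : ℕ → HU (⊤ : X.Opens) L q) :
    ∃! z : ℕ → HU (⊤ : X.Opens) L q, ∀ k, z k = y k + hmap ⊤ s q (z (k + 1)) := by
  cases q with
  | zero =>
    let e : HU (⊤ : X.Opens) L 0 ≃+ (freeAb (⊤ : X.Opens) ⟶ L) := Abelian.Ext.addEquiv₀
    have hmk : ∀ x : HU (⊤ : X.Opens) L 0, e (hmap ⊤ s 0 x) = e x ≫ s := fun x => by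
      apply e.symm.injective
      rw [AddEquiv.symm_apply_apply]
      conv_lhs => rw [← e.symm_apply_apply x]
      exact Abelian.Ext.mk₀_comp_mk₀ _ _
    obtain ⟨z, hz, huniq⟩ := hs _ fun k => e (y k)
    refine ⟨fun k => e.symm (z k), fun k => e.injective ?_, fun w hw => funext fun k => ?_⟩
    · rw [map_add, hmk, e.apply_symm_apply, e.apply_symm_apply]
      exact hz k
    · rw [← huniq (fun k => e (w k)) fun k => by
        show e (w k) = _
        conv_lhs => rw [hw k, map_add, hmk]]
      exact (e.symm_apply_apply _).symm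
  | succ q =>
    obtain ⟨hsurj, ⟨E⟩⟩ := LimLib.exists_milnor_ext (J := Opens.grothendieckTopology X) X.affineOpens
      RlimCrit.affine_cover (pwF L)
      (fun V _ n => by
        rw [pwF_map]
        intro t
        let sec : pw L n ⟶ pw L (n + 1) := biproduct.desc fun k => biproduct.ι (fun _ : Fin (n + 1 + 1) => L) k.castSucc
        refine ⟨sec.hom.app (op V) t, ?_⟩
        have e : sec ≫ pr L n = 𝟙 _ := by
          refine biproduct.hom_ext' _ _ fun k => biproduct.hom_ext _ _ fun l => ?_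
          simp only [sec, pr, Category.assoc, biproduct.ι_desc_assoc, biproduct.lift_π, Category.comp_id]
          rw [biproduct.ι_π, biproduct.ι_π]
          simp [Fin.castSucc_inj]
        exact congr($(e).hom.app (op V) t))
      (fun V hV n i hi => by
        obtain ⟨i, rfl⟩ : ∃ i', i = i' + 1 := ⟨i - 1, by omega⟩
        haveI := hac V hV i
        exact subsingleton_HU_pw L V (i + 1) n)
      (freeAb (⊤ : X.Opens)) (q + 1) q rfl
    haveI : Subsingleton (Formal2.limOne (fun n : ℕ => Abelian.Ext.{u} (freeAb (⊤ : X.Opens)) ((pwF L).obj (op n)) q)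
        (fun n : ℕ => (Abelian.Ext.mk₀ ((pwF L).map (homOfLE (Nat.le_succ n)).op)).postcomp (freeAb (⊤ : X.Opens)) (add_zero q))) := by
      refine QuotientAddGroup.subsingleton_iff.2 ((AddMonoidHom.range_eq_top).2 fun η => ?_)
      have hsur : ∀ n (w : HU (⊤ : X.Opens) (pw L n) q), ∃ w', hmap ⊤ (pr L n) q w' = w := fun n w => by
        refine ⟨hmap ⊤ (biproduct.desc fun k => biproduct.ι (fun _ : Fin (n + 1 + 1) => L) k.castSucc) q w, ?_⟩
        rw [hmap_comp_apply]
        have e : (biproduct.desc fun k => biproduct.ι (fun _ : Fin (n + 1 + 1) => L) k.castSucc) ≫ pr L n = 𝟙 _ := by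
          refine biproduct.hom_ext' _ _ fun k => biproduct.hom_ext _ _ fun l => ?_
          simp only [pr, Category.assoc, biproduct.ι_desc_assoc, biproduct.lift_π, Category.comp_id]
          rw [biproduct.ι_π, biproduct.ι_π]
          simp [Fin.castSucc_inj]
        rw [e]
        exact Abelian.Ext.comp_mk₀_id _
      choose lift hlift using hsur
      let η' : ∀ n, HU (⊤ : X.Opens) (pw L n) q := η
      let x : ∀ n, HU (⊤ : X.Opens) (pw L n) q := fun n =>
        Nat.rec (motive := fun n => HU (⊤ : X.Opens) (pw L n) q) 0 (fun m z => lift m (z - η' m)) n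
      refine ⟨x, funext fun n => ?_⟩
      show x n - hmap ⊤ (show pw L (n + 1) ⟶ pw L n from (pwF L).map (homOfLE (Nat.le_succ n)).op) q (x (n + 1)) = η' n
      rw [show (show pw L (n + 1) ⟶ pw L n from (pwF L).map (homOfLE (Nat.le_succ n)).op) = pr L n from pwF_map L n]
      show x n - hmap ⊤ (pr L n) q (lift n (x n - η' n)) = η' n
      rw [hlift, sub_sub_cancel]
    let c : ℕ → HU (⊤ : X.Opens) (limit (pwF L)) (q + 1) →+ HU (⊤ : X.Opens) L (q + 1) :=
      fun k => hmap ⊤ (comp L k) (q + 1)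
    have hinj : ∀ η, (∀ k, c k η = 0) → η = 0 := fun η hη => by
      have hmem : η ∈ (AddMonoidHom.pi fun n : ℕ =>
          (Abelian.Ext.mk₀ (limit.π (pwF L) (op n))).postcomp (freeAb (⊤ : X.Opens)) (add_zero (q + 1))).ker := by
        refine AddMonoidHom.mem_ker.2 (funext fun n => ?_)
        show hmap ⊤ (limit.π (pwF L) (op n)) (q + 1) η = 0
        rw [← Category.comp_id (limit.π (pwF L) (op n)),
          show 𝟙 ((pwF L).obj (op n)) = ∑ k : Fin (n + 1), biproduct.π _ k ≫ biproduct.ι (fun _ : Fin (n + 1) => L) k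
            from biproduct.total.symm, Preadditive.comp_sum]
        show hmapHom (q + 1) η _ = 0
        rw [map_sum]
        refine Finset.sum_eq_zero fun k _ => ?_
        show hmap ⊤ (limit.π (pwF L) (op n) ≫ biproduct.π _ k ≫ biproduct.ι (fun _ : Fin (n + 1) => L) k) (q + 1) η = 0
        rw [← Category.assoc, π_eq, ← hmap_comp_apply]
        show hmap ⊤ _ (q + 1) (c k η) = 0
        rw [hη, map_zero]
      exact congrArg Subtype.val (E.injective (Subsingleton.elim (E ⟨η, hmem⟩) (E 0)))
    have hlift : ∀ w : ℕ → HU (⊤ : X.Opens) L (q + 1), ∃ η, ∀ k, c k η = w k := fun w => by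
      let ξ : ∀ n, HU (⊤ : X.Opens) (pw L n) (q + 1) := fun n =>
        ∑ k : Fin (n + 1), hmap ⊤ (biproduct.ι (fun _ : Fin (n + 1) => L) k) (q + 1) (w k)
      have hξ : ∀ n (k : Fin (n + 1)), hmap ⊤ (biproduct.π (fun _ : Fin (n + 1) => L) k) (q + 1) (ξ n) = w k := by
        intro n k
        rw [map_sum, Finset.sum_eq_single k]
        · rw [hmap_comp_apply, biproduct.ι_π_self]
          exact Abelian.Ext.comp_mk₀_id _
        · intro l _ hl
          rw [hmap_comp_apply, biproduct.ι_π_ne _ hl]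
          show (w l).comp (Abelian.Ext.mk₀ 0) (add_zero (q + 1)) = 0
          rw [Abelian.Ext.mk₀_zero, Abelian.Ext.comp_zero]
        · exact fun h => absurd (Finset.mem_univ k) h
      obtain ⟨η, hη⟩ := hsurj ξ fun n => by
        rw [pwF_map]
        show hmap ⊤ (pr L n) (q + 1) (ξ (n + 1)) = ξ n
        refine sub_eq_zero.1 ?_
        generalize hδ' : hmap ⊤ (pr L n) (q + 1) (ξ (n + 1)) - ξ n = δ
        rw [← Abelian.Ext.comp_mk₀_id δ, ← biproduct.total]
        show hmapHom (q + 1) δ _ = 0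
        rw [map_sum]
        refine Finset.sum_eq_zero fun k _ => ?_
        show hmap ⊤ (biproduct.π _ k ≫ biproduct.ι (fun _ : Fin (n + 1) => L) k) (q + 1) δ = 0
        rw [← hmap_comp_apply, ← hδ', map_sub, hmap_comp_apply (pr L n), pr, biproduct.lift_π, hξ, hξ]
        show hmap ⊤ _ (q + 1) (w k - w k) = 0
        rw [sub_self, map_zero]
      refine ⟨η, fun k => ?_⟩
      show hmap ⊤ (limit.π (pwF L) (op k) ≫ biproduct.π _ (Fin.last k)) (q + 1) η = w k
      rw [← hmap_comp_apply]
      refine (congrArg _ (hη k)).trans ?_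
      exact hξ k (Fin.last k)
    obtain ⟨D, hD⟩ := exists_family L fun k => comp L k - comp L (k + 1) ≫ s
    obtain ⟨zc, hzc, huc⟩ := hs (limit (pwF L)) fun k => comp L k
    obtain ⟨Di, hDi⟩ := exists_family L zc
    have h1 : Di ≫ D = 𝟙 _ := hom_ext_comp L fun k => by
      rw [Category.assoc, hD, Preadditive.comp_sub, ← Category.assoc, hDi, hDi, Category.id_comp,
        sub_eq_iff_eq_add]
      exact hzc k
    have h2 : D ≫ Di = 𝟙 _ := hom_ext_comp L fun k => by
      obtain ⟨v, -, hv⟩ := hs (limit (pwF L)) fun k => D ≫ comp L k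
      have e1 := hv (fun k => D ≫ zc k) fun k => by
        show D ≫ zc k = _
        conv_lhs => rw [hzc k, Preadditive.comp_add, ← Category.assoc]
      have e2 := hv (fun k => comp L k) fun k => by rw [hD, sub_add_cancel]
      rw [Category.assoc, hDi, Category.id_comp]
      exact congrFun (e1.trans e2.symm) k
    obtain ⟨η, hη⟩ := hlift y
    refine ⟨fun k => c k (hmap ⊤ Di (q + 1) η), fun k => ?_, fun w hw => funext fun k => ?_⟩
    · have ec : ∀ m, c m (hmap ⊤ Di (q + 1) η) = hmap ⊤ (zc m) (q + 1) η := fun m =>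
        (hmap_comp_apply Di (comp L m) (q + 1) η).trans (congrArg (fun g => hmap ⊤ g (q + 1) η) (hDi m))
      show c k (hmap ⊤ Di (q + 1) η) = y k + hmap ⊤ s (q + 1) (c (k + 1) (hmap ⊤ Di (q + 1) η))
      rw [ec, ec, hzc k, ← hη k, hmap_comp_apply]
      exact map_add (hmapHom (q + 1) η) _ _
    · obtain ⟨ω, hω⟩ := hlift w
      have e : hmap ⊤ D (q + 1) ω = η := sub_eq_zero.1 (hinj _ fun k => by
        rw [map_sub, hη, sub_eq_zero]
        show hmap ⊤ (comp L k) (q + 1) (hmap ⊤ D (q + 1) ω) = y k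
        rw [hmap_comp_apply, hD, hmap_sub, ← hmap_comp_apply]
        show c k ω - hmap ⊤ s (q + 1) (c (k + 1) ω) = y k
        rw [hω, hω, hw k, add_sub_cancel_right])
      show w k = c k (hmap ⊤ Di (q + 1) η)
      rw [← e, hmap_comp_apply D Di, h2, show hmap ⊤ (𝟙 (limit (pwF L))) (q + 1) ω = ω from Abelian.Ext.comp_mk₀_id _]
      exact (hω k).symm

end Groth.Agent.FormalCplLib
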