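import Groth.Agent.FormalCplLib.Main

/-! The Milnor sequence for the completed cohomology. -/

set_option autoImplicit false
set_option linter.style.haveILetI false
set_option backward.isDefEq.respectTransparency false
set_option maxHeartbeats 1600000
set_option synthInstance.maxHeartbeats 200000

universe u

open CategoryTheory CategoryTheory.Limits AlgebraicGeometry TopologicalSpace Opposite
open Groth.Agent.CohBase Groth.Agent.ProjCoh Groth.Agent.QCohLib

noncomputable section

namespace Groth.Agent.FormalCplLib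

variable {A : Type u} [CommRing A] {X : Scheme.{u}} [X.Over (Spec (CommRingCat.of A))]
  [AlgebraicGeometry.IsNoetherian X] (I : Ideal A) (F : X.Modules)

theorem HHsysMap_eq (q n : ℕ) :
    Formal2.HHsysMap (Formal.completion I F) q n = Formal.HHmodPowTrans I F q n := by
  show Sheaf.H.map ((SheafOfModules.toSheaf _).map ((Formal.completion I F).map (homOfLE (Nat.le_succ n)).op)) q =
    Sheaf.H.map ((SheafOfModules.toSheaf _).map (Formal.modPowTrans I (n + 1) F)) q
  rw [show (Formal.completion I F).map (homOfLE (Nat.le_succ n)).op = Formal.modPowTrans I (n + 1) F from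
    Functor.ofOpSequence_map_homOfLE_succ _ n]

variable {F}

theorem exists_ses' (hF : Coh.IsCoh F) (p : ℕ) :
    ∃ (α : Formal2.limOne (fun n => Formal.HHmodPow I F p n) (fun n => Formal.HHmodPowTrans I F p n) →+
        Coh.HH X (Lim F I) (p + 1))
      (β : Coh.HH X (Lim F I) (p + 1) →+ Formal.HHlim I F (p + 1)),
      Function.Injective α ∧ Function.Surjective β ∧ α.range = β.ker ∧
      ∀ x n, (β x : ∀ n, Formal.HHmodPow I F (p + 1) n) n =
        hLin (A := A) (limit.π (Formal.completion I F) (op n)) (p + 1) x := by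
  have hc := FormalSys.isCohFormal_completion hF I
  have H := QFormalLim.exists_ses (G := Formal.completion I F) ⟨fun n => (hc.1 n).1, hc.2.1, hc.2.2⟩ p
  rw [show Formal2.HHsysMap (Formal.completion I F) p = fun n => Formal.HHmodPowTrans I F p n from
    funext (HHsysMap_eq I F p)] at H
  obtain ⟨α, β, hαi, hβs, hαβ, hπ⟩ := H
  have hm : ∀ x, (β x).1 ∈ Formal.HHlim I F (p + 1) := fun x n => by
    have h := congrFun (AddMonoidHom.mem_ker.1 (β x).2) n
    rw [← HHsysMap_eq]
    exact (sub_eq_zero.1 h).symm
  let β' := ((AddSubgroup.subtype _).comp β).codRestrict _ hm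
  have hval : ∀ x, (β' x).1 = (β x).1 := fun _ => rfl
  refine ⟨α, β', hαi, fun y => ?_, ?_, fun x n => hπ x n⟩
  · obtain ⟨w, hw⟩ := hβs ⟨y.1, AddMonoidHom.mem_ker.2 (funext fun n => sub_eq_zero.2 (by
      refine (y.2 n).symm.trans ?_
      exact congrArg (fun g : Formal.HHmodPow I F (p + 1) (n + 1) →+ Formal.HHmodPow I F (p + 1) n =>
        g (y.1 (n + 1))) (HHsysMap_eq I F (p + 1) n).symm))⟩
    exact ⟨w, Subtype.ext ((hval w).trans (congrArg Subtype.val hw))⟩
  · ext x
    constructor
    · intro hx
      exact AddMonoidHom.mem_ker.2 (Subtype.ext ((hval x).trans (congrArg Subtype.val (AddMonoidHom.mem_ker.1 (hαβ.le hx)))))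
    · intro hx
      exact hαβ.ge (AddMonoidHom.mem_ker.2 (Subtype.ext ((hval x).symm.trans (congrArg Subtype.val (AddMonoidHom.mem_ker.1 hx)))))

/-- The exact sequence of formal functions in positive degrees. -/
theorem formal_functions_ses [IsNoetherianRing A] (hF : Coh.IsCoh F)
    (hfin : ∀ q, Module.Finite A (Coh.HH X F q)) (p : ℕ) :
    ∃ (α : Formal2.limOne (fun n => Formal.HHmodPow I F p n) (fun n => Formal.HHmodPowTrans I F p n) →+
        AdicCompletion I (Coh.HH X F (p + 1)))
      (β : AdicCompletion I (Coh.HH X F (p + 1)) →+ Formal.HHlim I F (p + 1)),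
      Function.Injective α ∧ Function.Surjective β ∧ α.range = β.ker ∧
      ∀ (x : AdicCompletion I (Coh.HH X F (p + 1))) (n : ℕ) (h : Coh.HH X F (p + 1)),
        AdicCompletion.eval I (Coh.HH X F (p + 1)) (n + 1) x = Submodule.Quotient.mk h →
          (β x : ∀ n, Formal.HHmodPow I F (p + 1) n) n = Formal.toHHmodPow I F (p + 1) n h := by
  obtain ⟨s, hs⟩ := IsNoetherian.noetherian I
  obtain ⟨e, he⟩ := exists_equiv_completion F hF hfin s I hs (p + 1)
  obtain ⟨α, β, hαi, hβs, hαβ, hπ⟩ := exists_ses' I hF p
  let E : Coh.HH X (Lim F I) (p + 1) ≃+ AdicCompletion I (Coh.HH X F (p + 1)) := e.toAddEquiv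
  refine ⟨E.toAddMonoidHom.comp α, β.comp E.symm.toAddMonoidHom, E.injective.comp hαi,
    hβs.comp E.symm.surjective, ?_, fun x n h hx => ?_⟩
  · ext x
    constructor
    · rintro ⟨a, rfl⟩
      rw [AddMonoidHom.mem_ker]
      show β (E.symm (E (α a))) = 0
      rw [E.symm_apply_apply]
      exact hαβ.le ⟨a, rfl⟩
    · intro hx
      obtain ⟨a, ha⟩ := hαβ.ge (show E.symm x ∈ β.ker from hx)
      refine ⟨a, ?_⟩
      show E (α a) = x
      rw [ha, E.apply_symm_apply]
  show (β (e.symm x)).1 n = _
  rw [hπ]
  let L := hLin (A := A) (limit.π (Formal.completion I F) (op n)) (p + 1)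
  have hker : x - AdicCompletion.of I _ h ∈ (I ^ (n + 1) • ⊤ : Submodule A _) := by
    rw [AdicCompletion.pow_smul_top_eq_ker_eval (IsNoetherian.noetherian I), LinearMap.mem_ker, map_sub, hx]
    exact sub_self _
  have hz : L (e.symm (x - AdicCompletion.of I _ h)) = 0 := by
    refine Submodule.smul_induction_on (p := fun z => L (e.symm z) = 0) hker (fun a ha z _ => ?_)
      (fun z w hz hw => by rw [map_add, map_add, hz, hw, add_zero])
    rw [map_smul, map_smul]
    show Sheaf.H.map ((toAbF X).map (Formal.smulMod A ((Formal.completion I F).obj (op n)) a)) (p + 1) _ = 0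
    rw [(FormalSys.isCohFormal_completion hF I).2.1 n a ha, Functor.map_zero]
    exact H_map_zero _ _
  rw [map_sub, map_sub, sub_eq_zero] at hz
  refine hz.trans ?_
  rw [show e.symm (AdicCompletion.of I _ h) = hLin (A := A) (toLim F I) (p + 1) h from
    e.injective (by rw [LinearEquiv.apply_symm_apply, he])]
  show hLin (A := A) (limit.π (Formal.completion I F) (op n)) (p + 1) (hLin (A := A) (toLim F I) (p + 1) h) = _
  rw [← hLin_comp, toLim_π]
  rfl

end Groth.Agent.FormalCplLib
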