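import Groth.Agent.FormalCplLib.DC
import Groth.Agent.FormalCplLib.Transfer
import Groth.Agent.OpenRestrH.Scheme

/-! The cohomology of a completed coherent module is the completed cohomology. -/

set_option autoImplicit false
set_option linter.style.haveILetI false
set_option backward.isDefEq.respectTransparency false
set_option maxHeartbeats 800000
set_option synthInstance.maxHeartbeats 200000

universe u

open CategoryTheory CategoryTheory.Limits AlgebraicGeometry TopologicalSpace Opposite
open Groth.Agent.CohBase Groth.Agent.ProjCoh Groth.Agent.QCohLib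

noncomputable section

namespace Groth.Agent.FormalCplLib

theorem exists_hom_limit {X : Scheme.{u}} (G : ℕᵒᵖ ⥤ X.Modules) {T : AbSh X}
    (w : ∀ n, T ⟶ (toAbF X).obj (G.obj (op n)))
    (hw : ∀ n, w (n + 1) ≫ (toAbF X).map (G.map (homOfLE (Nat.le_succ n)).op) = w n) :
    (∃ g : T ⟶ (toAbF X).obj (limit G), ∀ n, g ≫ (toAbF X).map (limit.π G (op n)) = w n) := by
  haveI : PreservesLimitsOfSize.{u, u} (toAbF X) := by
    haveI : PreservesLimitsOfSize.{u, u} (toAbF X ⋙ sheafToPresheaf (Opens.grothendieckTopology X) AddCommGrpCat.{u}) :=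
      inferInstanceAs (PreservesLimitsOfSize.{u, u}
        (SheafOfModules.forget.{u} X.ringCatSheaf ⋙ PresheafOfModules.toPresheaf X.ringCatSheaf.obj))
    haveI : ReflectsLimitsOfSize.{u, u} (sheafToPresheaf (Opens.grothendieckTopology X) AddCommGrpCat.{u}) :=
      reflectsLimits_of_reflectsIsomorphisms
    exact preservesLimits_of_reflects_of_preserves _ (sheafToPresheaf (Opens.grothendieckTopology X) AddCommGrpCat.{u})
  haveI := preservesLimitsOfSize_shrink.{0, u, 0, u} (toAbF X)
  let hl := isLimitOfPreserves (toAbF X) (limit.isLimit G)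
  let c : Cone (G ⋙ toAbF X) := Cone.mk T
    (NatTrans.ofOpSequence (G := G ⋙ toAbF X) (F := (Functor.const ℕᵒᵖ).obj T) w fun n =>
      (Category.id_comp _).trans (hw n).symm)
  exact ⟨hl.lift c, fun n => hl.fac c (op n)⟩

theorem hom_ext_limit {X : Scheme.{u}} (G : ℕᵒᵖ ⥤ X.Modules) {T : AbSh X}
    {g g' : T ⟶ (toAbF X).obj (limit G)}
    (h : ∀ n, g ≫ (toAbF X).map (limit.π G (op n)) = g' ≫ (toAbF X).map (limit.π G (op n))) : g = g' := by
  haveI : PreservesLimitsOfSize.{u, u} (toAbF X) := by
    haveI : PreservesLimitsOfSize.{u, u} (toAbF X ⋙ sheafToPresheaf (Opens.grothendieckTopology X) AddCommGrpCat.{u}) :=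
      inferInstanceAs (PreservesLimitsOfSize.{u, u}
        (SheafOfModules.forget.{u} X.ringCatSheaf ⋙ PresheafOfModules.toPresheaf X.ringCatSheaf.obj))
    haveI : ReflectsLimitsOfSize.{u, u} (sheafToPresheaf (Opens.grothendieckTopology X) AddCommGrpCat.{u}) :=
      reflectsLimits_of_reflectsIsomorphisms
    exact preservesLimits_of_reflects_of_preserves _ (sheafToPresheaf (Opens.grothendieckTopology X) AddCommGrpCat.{u})
  haveI := preservesLimitsOfSize_shrink.{0, u, 0, u} (toAbF X)
  exact (isLimitOfPreserves (toAbF X) (limit.isLimit G)).hom_ext fun n => h n.unop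

variable {A : Type u} [CommRing A] {X : Scheme.{u}} [X.Over (Spec (CommRingCat.of A))]

/-- Multiplication by powers. -/
abbrev S' (f : A) (M : X.Modules) (n : ℕ) : (toAbF X).obj M ⟶ (toAbF X).obj M :=
  (toAbF X).map (Formal.smulMod A M (f ^ n))

theorem smulMod_mul (M : X.Modules) (a b : A) :
    Formal.smulMod A M (a * b) = Formal.smulMod A M b ≫ Formal.smulMod A M a := by
  refine Scheme.Modules.hom_ext _ _ fun U => AddCommGrpCat.hom_ext (AddMonoidHom.ext fun s => ?_)
  show φV (FormalLib.cst A X) U (a * b) • (show Γ(M, U) from s) =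
    φV (FormalLib.cst A X) U a • φV (FormalLib.cst A X) U b • (show Γ(M, U) from s)
  rw [map_mul, mul_smul]

theorem smulMod_one (M : X.Modules) : Formal.smulMod A M 1 = 𝟙 M := by
  refine Scheme.Modules.hom_ext _ _ fun U => AddCommGrpCat.hom_ext (AddMonoidHom.ext fun s => ?_)
  show φV (FormalLib.cst A X) U 1 • (show Γ(M, U) from s) = _
  rw [map_one, one_smul]
  rfl

theorem solvable_limit {J : Ideal A} {G : ℕᵒᵖ ⥤ X.Modules} (hkill : ∀ n, Formal.KilledBy (J ^ (n + 1)) (G.obj (op n)))
    {f : A} (hf : f ∈ J) :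
    Solvable ((toAbF X).obj (limit G)) ((toAbF X).map (Formal.smulMod A (limit G) f)) := by
  intro T y
  have hS : ∀ (n : ℕ), S' f (G.obj (op n)) (n + 1) = 0 := fun n => by
    show (toAbF X).map _ = 0
    rw [hkill n _ (Ideal.pow_mem_pow hf (n + 1)), Functor.map_zero]
  have hnat : ∀ n, (toAbF X).map (Formal.smulMod A (limit G) f) ≫ (toAbF X).map (limit.π G (op n)) =
      (toAbF X).map (limit.π G (op n)) ≫ S' f (G.obj (op n)) 1 := fun n => by
    rw [← Functor.map_comp, FormalLib.smulMod_natural, Functor.map_comp]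
    simp only [S', pow_one]
  have hsucc : ∀ (M : X.Modules) j, S' f M j ≫ S' f M 1 = S' f M (j + 1) := fun M j => by
    simp only [S', ← Functor.map_comp, pow_one]
    rw [← smulMod_mul, pow_succ']
  let Y : ℕ → ∀ n, T ⟶ (toAbF X).obj (G.obj (op n)) := fun k n => y k ≫ (toAbF X).map (limit.π G (op n))
  let Z : ℕ → ∀ n, T ⟶ (toAbF X).obj (G.obj (op n)) := fun k n =>
    ∑ i ∈ Finset.range (n + 1), Y (k + i) n ≫ S' f (G.obj (op n)) i
  have hZ : ∀ k n, Z k n = Y k n + Z (k + 1) n ≫ S' f (G.obj (op n)) 1 := by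
    intro k n
    simp only [Z, Preadditive.sum_comp, Category.assoc, hsucc]
    rw [Finset.sum_range_succ', Finset.sum_range_succ (n := n), hS n, comp_zero, add_zero, add_comm]
    congr 1
    · show Y k n ≫ (toAbF X).map (Formal.smulMod A (G.obj (op n)) (f ^ 0)) = Y k n
      rw [pow_zero, smulMod_one, CategoryTheory.Functor.map_id, Category.comp_id]
    · rw [add_zero]
      refine Finset.sum_congr rfl fun i _ => ?_
      rw [add_right_comm, add_assoc]
  have hcompat : ∀ k n, Z k (n + 1) ≫ (toAbF X).map (G.map (homOfLE (Nat.le_succ n)).op) = Z k n := by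
    intro k n
    have e : ∀ i, (Y (k + i) (n + 1) ≫ S' f (G.obj (op (n + 1))) i) ≫
        (toAbF X).map (G.map (homOfLE (Nat.le_succ n)).op) = Y (k + i) n ≫ S' f (G.obj (op n)) i := fun i => by
      simp only [Y, S', Category.assoc, ← Functor.map_comp]
      rw [FormalLib.smulMod_natural, limit.w_assoc]
    simp only [Z, Preadditive.sum_comp, e]
    rw [Finset.sum_range_succ, hS n, comp_zero, add_zero]
  choose z hz using fun k => exists_hom_limit G (Z k) (hcompat k)
  refine ⟨z, fun k => hom_ext_limit G fun n => ?_, fun w hw => funext fun k => hom_ext_limit G fun n => ?_⟩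
  · rw [hz, Preadditive.add_comp, Category.assoc, hnat, ← Category.assoc, hz]
    exact hZ k n
  rw [hz]
  let e : ℕ → (T ⟶ (toAbF X).obj (G.obj (op n))) := fun k => w k ≫ (toAbF X).map (limit.π G (op n)) - Z k n
  have he : ∀ k, e k = e (k + 1) ≫ S' f (G.obj (op n)) 1 := fun k => by
    simp only [e]
    conv_lhs => rw [hw k, hZ k n, Preadditive.add_comp, Category.assoc, hnat]
    rw [Preadditive.sub_comp, Category.assoc, add_sub_add_left_eq_sub]
  have he' : ∀ m, ∀ k, e k = e (k + m) ≫ S' f (G.obj (op n)) m := fun m => by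
    induction m with
    | zero =>
      intro k
      show e k = e k ≫ (toAbF X).map (Formal.smulMod A (G.obj (op n)) (f ^ 0))
      rw [pow_zero, smulMod_one, CategoryTheory.Functor.map_id, Category.comp_id]
    | succ m ih =>
      intro k
      rw [ih k, he (k + m), Category.assoc, add_assoc]
      refine congrArg (e (k + (m + 1)) ≫ ·) ?_
      simp only [S', ← Functor.map_comp, pow_one]
      rw [← smulMod_mul, pow_succ]
  exact sub_eq_zero.1 ((he' (n + 1) k).trans (by rw [hS n, comp_zero]))

variable [AlgebraicGeometry.IsNoetherian X]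

theorem acyclic_lim (F : X.Modules) (hF : Coh.IsCoh F) (J : Ideal A) {V : X.Opens} (hV : IsAffineOpen V) (i : ℕ) :
    Subsingleton (HU V ((toAbF X).obj (Lim F J)) (i + 1)) := by
  have hc := FormalSys.isCohFormal_completion hF J
  haveI := QFormalLim.subsingleton_HHon_limit (G := Formal.completion J F)
    ⟨fun n => (hc.1 n).1, hc.2.1, hc.2.2⟩ hV (i + 1) i.succ_pos
  obtain ⟨e⟩ := OpenRestrH.nonempty_HHon_equiv X (Lim F J) V (i + 1)
  exact e.toEquiv.subsingleton

theorem dComplete (F : X.Modules) (hF : Coh.IsCoh F) {J : Ideal A} {f : A} (hf : f ∈ J) (q : ℕ) :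
    DComplete f (Coh.HH X (Lim F J) q) := by
  have hc := FormalSys.isCohFormal_completion hF J
  have hu := exists_unique_series ((toAbF X).obj (Lim F J)) ((toAbF X).map (Formal.smulMod A (Lim F J) f))
    (solvable_limit hc.2.1 hf) (fun V hV i => acyclic_lim F hF J hV i) q
  let e := HHEquiv (Lim F J) q
  refine ⟨fun h hh => ?_, fun y => ?_⟩
  · obtain ⟨z, -, huniq⟩ := hu fun _ => 0
    have e1 := huniq (fun k => e (h k)) fun k => by
      show e (h k) = _
      rw [zero_add, ← HHEquiv_smul, hh k]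
    have e2 := huniq (fun _ => 0) fun k => by
      show (0 : HU _ _ _) = _
      rw [map_zero, add_zero]
    exact e.map_eq_zero_iff.1 (congrFun (e1.trans e2.symm) 0)
  · obtain ⟨z, hz, -⟩ := hu fun k => e (y k)
    refine ⟨fun k => e.symm (z k), fun k => e.injective ?_⟩
    rw [map_add, HHEquiv_smul, e.apply_symm_apply, e.apply_symm_apply]
    exact hz k

theorem isIso_toLim_bot (F : X.Modules) : IsIso (toLim (A := A) F ⊥) := by
  have hb : ∀ n, IsIso (Formal.modPowπ (⊥ : Ideal A) (n + 1) F) := fun n => by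
    have h0 : Formal.smulFamily ((⊥ : Ideal A) ^ (n + 1)) F = 0 := by
      refine Sigma.hom_ext _ _ fun ⟨a, ha⟩ => ?_
      rw [Formal.smulFamily, Sigma.ι_desc, comp_zero]
      have : a = 0 := by
        rw [← Ideal.zero_eq_bot, zero_pow (Nat.succ_ne_zero n), Ideal.zero_eq_bot] at ha
        exact ha
      subst this
      refine Scheme.Modules.hom_ext _ _ fun U => AddCommGrpCat.hom_ext (AddMonoidHom.ext fun s => ?_)
      show φV (FormalLib.cst A X) U 0 • (show Γ(F, U) from s) = 0
      rw [map_zero, zero_smul]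
    have key : ∀ {P Q : X.Modules} (g : P ⟶ Q), g = 0 → IsIso (cokernel.π g) := by
      rintro P Q g rfl; infer_instance
    exact key _ h0
  haveI := hb 0
  refine ⟨limit.π (Formal.completion (⊥ : Ideal A) F) (op 0) ≫ inv (Formal.modPowπ (⊥ : Ideal A) (0 + 1) F), ?_, ?_⟩
  · rw [← Category.assoc, toLim_π]
    exact IsIso.hom_inv_id _
  · refine limit.hom_ext fun n => ?_
    obtain ⟨n⟩ := n
    haveI := hb n
    rw [Category.assoc, toLim_π, Category.id_comp, Category.assoc, ← limit.w (Formal.completion (⊥ : Ideal A) F)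
      (homOfLE (Nat.zero_le n)).op, Category.assoc]
    refine (congrArg (limit.π _ _ ≫ ·) ?_).trans (Category.comp_id _)
    have e : Formal.modPowπ (⊥ : Ideal A) (n + 1) F ≫
        (Formal.completion (⊥ : Ideal A) F).map (homOfLE (Nat.zero_le n)).op = Formal.modPowπ (⊥ : Ideal A) (0 + 1) F :=
      FormalSys.modPowπ_tr ⊥ F (Nat.zero_le n)
    rw [← cancel_epi (Formal.modPowπ (⊥ : Ideal A) (n + 1) F)]
    refine ((Category.assoc _ _ _).symm.trans ?_).trans (Category.comp_id _).symm
    refine (congrArg (· ≫ inv (Formal.modPowπ (⊥ : Ideal A) (0 + 1) F) ≫ Formal.modPowπ (⊥ : Ideal A) (n + 1) F) e).trans ?_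
    exact IsIso.hom_inv_id_assoc _ _

/-- Completed cohomology. -/
theorem exists_equiv_completion [IsNoetherianRing A] (F : X.Modules) (hF : Coh.IsCoh F)
    (hfin : ∀ q, Module.Finite A (Coh.HH X F q)) (s : Finset A) (J : Ideal A) (hs : Ideal.span (s : Set A) = J) :
    ∀ q, ∃ e : Coh.HH X (Lim F J) q ≃ₗ[A] AdicCompletion J (Coh.HH X F q),
      ∀ x, e (hLin (A := A) (toLim F J) q x) = AdicCompletion.of J _ x := by
  classical
  induction s using Finset.induction_on generalizing J with
  | empty =>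
    rw [Finset.coe_empty, Ideal.span_empty] at hs
    subst hs
    intro q
    haveI := isIso_toLim_bot (A := A) F
    have hbij : Function.Bijective (hLin (A := A) (toLim F (⊥ : Ideal A)) q) := by
      refine Function.bijective_iff_has_inverse.2
        ⟨hLin (A := A) (inv (toLim (A := A) F (⊥ : Ideal A))) q, fun x => ?_, fun x => ?_⟩
      · rw [← hLin_comp, IsIso.hom_inv_id]
        show Sheaf.H.map ((toAbF X).map (𝟙 F)) q x = x
        rw [CategoryTheory.Functor.map_id, Sheaf.H.map_id_apply]
      · rw [← hLin_comp, IsIso.inv_hom_id]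
        show Sheaf.H.map ((toAbF X).map (𝟙 _)) q x = x
        rw [CategoryTheory.Functor.map_id, Sheaf.H.map_id_apply]
    exact ⟨(LinearEquiv.ofBijective _ hbij).symm.trans (LinearEquiv.ofBijective _ (AdicCompletion.of_bijective ⊥ _)),
      fun x => by
        show AdicCompletion.of ⊥ _ ((LinearEquiv.ofBijective _ hbij).symm ((LinearEquiv.ofBijective _ hbij) x)) = _
        rw [LinearEquiv.symm_apply_apply]⟩
  | insert f s hfs ih =>
    rw [Finset.coe_insert, Ideal.span_insert, sup_comm] at hs
    obtain ⟨e⟩ : Nonempty (∀ q, { e : Coh.HH X (Lim F (Ideal.span (s : Set A))) q ≃ₗ[A]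
        AdicCompletion (Ideal.span (s : Set A)) (Coh.HH X F q) //
        ∀ x, e (hLin (A := A) (toLim F _) q x) = AdicCompletion.of _ _ x }) :=
      ⟨fun q => ⟨_, ((ih _ rfl) q).choose_spec⟩⟩
    intro q
    haveI := hfin
    have hle : Ideal.span (s : Set A) ≤ J := hs ▸ le_sup_left
    have hb : ∀ q', BddTors f (Coh.HH X (Lim F (Ideal.span (s : Set A))) q') := fun q' => by
      haveI := hfin q'
      obtain ⟨c, hc⟩ := bddTors (Coh.HH X F q') f (Ideal.span (s : Set A))
      exact ⟨c, fun a x hx => (e q').1.injective (by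
        rw [map_smul, map_zero]; exact hc a _ (by rw [← map_smul, hx, map_zero]))⟩
    have hloc : AffFLocal f (trans F hle) := fun U hU => flocal_sections F hF U hU f hs.symm
    have hfJ : f ∈ J := hs ▸ Ideal.mem_sup_right (Ideal.mem_span_singleton_self f)
    have hcpl := (flocal_hLin hloc hb q).fcompl (hb q) (dComplete F hF hfJ q)
    let φ := (hLin (A := A) (trans F hle) q).comp (e q).1.symm.toLinearMap
    have hφ : FCompl f φ := by
      refine ⟨fun a x z h => ?_, fun a z => ?_, hcpl.sep, fun t ht => ?_⟩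
      · obtain ⟨y, hy⟩ := hcpl.mem a _ z h
        exact ⟨(e q).1 y, by rw [← map_smul, ← hy, LinearEquiv.coe_coe, LinearEquiv.apply_symm_apply]⟩
      · obtain ⟨x, z', h⟩ := hcpl.dense a z
        exact ⟨(e q).1 x, z', by rw [h]; simp [φ]⟩
      · obtain ⟨z, hz⟩ := hcpl.lim (fun a => (e q).1.symm (t a)) fun a => by
          obtain ⟨v, hv⟩ := ht a
          exact ⟨(e q).1.symm v, by rw [← map_sub, hv, map_smul]⟩
        exact ⟨z, hz⟩
    haveI := hfin q
    obtain ⟨ε, hε⟩ := hφ.exists_equiv (factorMap_fcompl hle (Coh.HH X F q) f hs.symm)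
    refine ⟨ε, fun x => ?_⟩
    have h1 : φ (AdicCompletion.of _ _ x) = hLin (A := A) (toLim F J) q x := by
      show hLin (A := A) (trans F hle) q ((e q).1.symm _) = _
      rw [← (e q).2 x, LinearEquiv.symm_apply_apply, ← hLin_comp, toLim_trans]
    rw [← h1, hε, factorMap_of]

end Groth.Agent.FormalCplLib

namespace Groth.Agent.FormalCplLib

theorem H_map_zero {X : Scheme.{u}} {F G : AbSh X} (q : ℕ) (x : Sheaf.H F q) :
    Sheaf.H.map (0 : F ⟶ G) q x = 0 := by
  rw [← (HEquiv G q).map_eq_zero_iff, HEquiv_map]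
  show (HEquiv F q x).comp (Abelian.Ext.mk₀ 0) (add_zero q) = 0
  rw [Abelian.Ext.mk₀_zero, Abelian.Ext.comp_zero]

end Groth.Agent.FormalCplLib
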