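import Groth.Agent.FormalCplLib.Adic
import Groth.Agent.FormalSysLib.Systems
import Groth.Agent.FormalSysLimLib.Lim

/-! The completions of a coherent module along comparable ideals of the base, on affine opens. -/

set_option autoImplicit false
set_option linter.style.haveILetI false
set_option backward.isDefEq.respectTransparency false

universe u

open CategoryTheory CategoryTheory.Limits AlgebraicGeometry TopologicalSpace Opposite
open Groth.Agent.CohBase Groth.Agent.ProjCoh Groth.Agent.QCohLib

noncomputable section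

namespace Groth.Agent.FormalCplLib

variable {A : Type u} [CommRing A] {X : Scheme.{u}} [X.Over (Spec (CommRingCat.of A))]
  (F : X.Modules)

/-- The completed sheaf. -/
abbrev Lim (J : Ideal A) : X.Modules := limit (Formal.completion J F)

section

variable [IsNoetherian X]

/-- The completion map. -/
def toLim (J : Ideal A) : F ⟶ Lim F J :=
  limit.lift (Formal.completion J F) (Cone.mk F
    { app := fun n => Formal.modPowπ J (n.unop + 1) F
      naturality := fun m n g => by
        refine (Category.id_comp _).trans ?_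
        exact (FormalSys.modPowπ_tr J F (leOfHom g.unop)).symm })

theorem toLim_π (J : Ideal A) (n : ℕ) :
    toLim F J ≫ limit.π (Formal.completion J F) (op n) = Formal.modPowπ J (n + 1) F :=
  limit.lift_π _ _

variable {J J' : Ideal A} (h : J ≤ J')

/-- The levelwise map for comparable ideals. -/
def levelMap (n : ℕ) : Formal.modPow J n F ⟶ Formal.modPow J' n F :=
  cokernel.desc _ (Formal.modPowπ J' n F) (Formal.smulFamily_π_of_le (Ideal.pow_right_mono h n) F)

omit [AlgebraicGeometry.IsNoetherian X] in
theorem π_levelMap (n : ℕ) : Formal.modPowπ J n F ≫ levelMap F h n = Formal.modPowπ J' n F :=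
  cokernel.π_desc _ _ _

/-- The map of completions for comparable ideals. -/
def trans : Lim F J ⟶ Lim F J' :=
  limit.lift (Formal.completion J' F) (Cone.mk (Lim F J)
    { app := fun n => limit.π (Formal.completion J F) n ≫ levelMap F h (n.unop + 1)
      naturality := fun m n g => by
        refine (Category.id_comp _).trans ?_
        rw [← limit.w (Formal.completion J F) g, Category.assoc, Category.assoc]
        refine congrArg (limit.π (Formal.completion J F) m ≫ ·) ?_
        haveI : Epi (Formal.modPowπ J (m.unop + 1) F) := coequalizer.π_epi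
        refine (cancel_epi (Formal.modPowπ J (m.unop + 1) F)).1 ?_
        refine ((Category.assoc _ _ _).symm.trans ((congrArg (· ≫ _) (FormalSys.modPowπ_tr J F (leOfHom g.unop))).trans
          (π_levelMap F h _))).trans ?_
        refine ((Category.assoc _ _ _).symm.trans ((congrArg (· ≫ _) (π_levelMap F h _)).trans
          (FormalSys.modPowπ_tr J' F (leOfHom g.unop)))).symm })

theorem trans_π (n : ℕ) :
    trans F h ≫ limit.π (Formal.completion J' F) (op n) =
      limit.π (Formal.completion J F) (op n) ≫ levelMap F h (n + 1) :=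
  limit.lift_π _ _

theorem toLim_trans : toLim F J ≫ trans F h = toLim F J' := by
  refine limit.hom_ext fun n => ?_
  obtain ⟨n⟩ := n
  rw [Category.assoc, trans_π, ← Category.assoc, toLim_π, π_levelMap, toLim_π]

end

/-- The image of a base element in the sections. -/
abbrev fU (f : A) (U : X.Opens) : Γ(X, U) := φV (FormalLib.cst A X) U f

variable [IsNoetherian X] (hF : Coh.IsCoh F) {U : X.Opens} (hU : IsAffineOpen U) (J : Ideal A)

/-- The level in sections. -/
def qLevel (n : ℕ) :
    (Γ(F, U) ⧸ (FormalSys.JU J U ^ n • ⊤ : Submodule Γ(X, U) Γ(F, U))) →ₗ[Γ(X, U)] Γ(Formal.modPow J n F, U) :=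
  Submodule.liftQ _ (QCohLib.appLinear (Formal.modPowπ J n F) U)
    ((FormalSys.app_modPowπ hF.1 J n hU).2.ge)

theorem qLevel_mk (n : ℕ) (x : Γ(F, U)) :
    qLevel F hF hU J n (Submodule.Quotient.mk x) = (Formal.modPowπ J n F).app U x := rfl

theorem qLevel_bijective (n : ℕ) : Function.Bijective (qLevel F hF hU J n) := by
  refine ⟨?_, fun y => ?_⟩
  · rw [← LinearMap.ker_eq_bot, LinearMap.ker_eq_bot']
    intro x hx
    obtain ⟨x, rfl⟩ := Submodule.Quotient.mk_surjective _ x
    refine (Submodule.Quotient.mk_eq_zero _).2 ?_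
    rw [← (FormalSys.app_modPowπ hF.1 J n hU).2]
    exact hx
  · obtain ⟨x, rfl⟩ := (FormalSys.app_modPowπ hF.1 J n hU).1 y
    exact ⟨Submodule.Quotient.mk x, rfl⟩

theorem exists_rho (z : AdicCompletion (FormalSys.JU J U) Γ(F, U)) :
    ∃ y : Γ(Lim F J, U), ∀ n : ℕ,
      (limit.π (Formal.completion J F) (op n)).app U y = qLevel F hF hU J (n + 1) (z.val (n + 1)) := by
  refine FormalSys.exists_limit_sec (Formal.completion J F) U
    (fun n => qLevel F hF hU J (n + 1) (z.val (n + 1))) fun {n k} h => ?_
  obtain ⟨x, hx⟩ := Submodule.Quotient.mk_surjective _ (z.val (k + 1))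
  rw [← hx, qLevel_mk, ← z.property (Nat.succ_le_succ h), ← hx]
  exact congr($(FormalSys.modPowπ_tr J F h).app U x)

/-- Completed sections. -/
def rho (z : AdicCompletion (FormalSys.JU J U) Γ(F, U)) : Γ(Lim F J, U) := (exists_rho F hF hU J z).choose

theorem rho_π (z : AdicCompletion (FormalSys.JU J U) Γ(F, U)) (n : ℕ) :
    (limit.π (Formal.completion J F) (op n)).app U (rho F hF hU J z) = qLevel F hF hU J (n + 1) (z.val (n + 1)) :=
  (exists_rho F hF hU J z).choose_spec n

/-- Completed sections, linearly. -/
def rhoLin : AdicCompletion (FormalSys.JU J U) Γ(F, U) →ₗ[Γ(X, U)] Γ(Lim F J, U) where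
  toFun := rho F hF hU J
  map_add' z w := FormalSys.limit_sec_ext _ _ fun n => by
    rw [map_add, rho_π, rho_π, rho_π, AdicCompletion.val_add, Pi.add_apply, map_add]
  map_smul' r z := FormalSys.limit_sec_ext _ _ fun n => by
    rw [RingHom.id_apply, Scheme.Modules.Hom.app_smul, rho_π, rho_π, AdicCompletion.val_smul, Pi.smul_apply,
      map_smul]

theorem rhoLin_bijective : Function.Bijective (rhoLin F hF hU J) := by
  refine ⟨?_, fun y => ?_⟩
  · rw [← LinearMap.ker_eq_bot, LinearMap.ker_eq_bot']
    intro z hz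
    refine AdicCompletion.ext fun n => ?_
    cases n with
    | zero =>
      haveI : Subsingleton (Γ(F, U) ⧸ (FormalSys.JU J U ^ 0 • ⊤ : Submodule Γ(X, U) Γ(F, U))) :=
        Submodule.Quotient.subsingleton_iff.2 (by rw [pow_zero, Ideal.one_eq_top, Submodule.top_smul])
      exact Subsingleton.elim _ _
    | succ n =>
      refine (qLevel_bijective F hF hU J (n + 1)).1 ?_
      rw [← rho_π, show rho F hF hU J z = 0 from hz, map_zero]
      exact (map_zero _).symm
  · choose c hc using fun n => (qLevel_bijective F hF hU J n).2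
    let v : ∀ n, Γ(F, U) ⧸ (FormalSys.JU J U ^ n • ⊤ : Submodule Γ(X, U) Γ(F, U)) := fun n =>
      match n with
      | 0 => 0
      | n + 1 => c (n + 1) ((limit.π (Formal.completion J F) (op n)).app U y)
    have hv : ∀ n, qLevel F hF hU J (n + 1) (v (n + 1)) = (limit.π (Formal.completion J F) (op n)).app U y :=
      fun n => hc _ _
    have hcompat : ∀ {m n : ℕ} (h : m ≤ n),
        AdicCompletion.transitionMap (FormalSys.JU J U) Γ(F, U) h (v n) = v m := by
      intro m n h
      cases m with
      | zero =>
        haveI : Subsingleton (Γ(F, U) ⧸ (FormalSys.JU J U ^ 0 • ⊤ : Submodule Γ(X, U) Γ(F, U))) :=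
          Submodule.Quotient.subsingleton_iff.2 (by rw [pow_zero, Ideal.one_eq_top, Submodule.top_smul])
        exact Subsingleton.elim _ _
      | succ m =>
        obtain ⟨n, rfl⟩ : ∃ k, n = k + 1 := ⟨n - 1, by omega⟩
        refine (qLevel_bijective F hF hU J (m + 1)).1 ?_
        rw [hv m]
        obtain ⟨x, hx⟩ := Submodule.Quotient.mk_surjective _ (v (n + 1))
        rw [← hx]
        refine (congr($(FormalSys.modPowπ_tr J F (Nat.le_of_succ_le_succ h)).app U x)).symm.trans ?_
        show (FormalSys.tr (Formal.completion J F) (Nat.le_of_succ_le_succ h)).app U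
          (qLevel F hF hU J (n + 1) (Submodule.Quotient.mk x)) = _
        rw [hx, hv]
        exact congr($(limit.w (Formal.completion J F) (homOfLE (Nat.le_of_succ_le_succ h)).op).app U y)
    exact ⟨⟨v, fun h => hcompat h⟩, FormalSys.limit_sec_ext _ _ fun n => (rho_π F hF hU J _ n).trans (hv n)⟩

variable {J} {J' : Ideal A} (h : J ≤ J')

theorem trans_rho (z : AdicCompletion (FormalSys.JU J U) Γ(F, U)) :
    (trans F h).app U (rhoLin F hF hU J z) =
      rhoLin F hF hU J' (factorMap (Ideal.map_mono h) Γ(F, U) z) := by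
  refine FormalSys.limit_sec_ext _ _ fun n => ?_
  show (limit.π (Formal.completion J' F) (op n)).app U ((trans F h).app U (rho F hF hU J z)) =
    (limit.π (Formal.completion J' F) (op n)).app U (rho F hF hU J' _)
  rw [rho_π, ← FormalSys.app_comp_apply, trans_π, FormalSys.app_comp_apply, rho_π, factorMap_val]
  obtain ⟨x, hx⟩ := Submodule.Quotient.mk_surjective _ (z.val (n + 1))
  rw [← hx]
  exact congr($(π_levelMap F h (n + 1)).app U x)

variable (U) in
include hF hU in
/-- On an affine open the map of completions has `f` bijective on kernel and cokernel. -/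
theorem flocal_sections (f : A) (hJ' : J' = J ⊔ Ideal.span {f}) :
    FLocal (fU f U) (QCohLib.appLinear (trans F (hJ' ▸ le_sup_left : J ≤ J')) U) := by
  have h : J ≤ J' := hJ' ▸ le_sup_left
  haveI := QCohLib.isNoetherianRing_section hU
  haveI : Module.Finite Γ(X, U) Γ(F, U) := QCohLib.finite_sections_of_isCoh hF hU
  have hU' : FormalSys.JU J' U = FormalSys.JU J U ⊔ Ideal.span {fU f U} := by
    rw [hJ', FormalSys.JU, Ideal.map_sup, Ideal.map_span, Set.image_singleton]
  have hl := (factorMap_fcompl (Ideal.map_mono h) Γ(F, U) (fU f U) hU').flocal (bddTors Γ(F, U) (fU f U) _)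
  let e := LinearEquiv.ofBijective _ (rhoLin_bijective F hF hU J)
  let e' := LinearEquiv.ofBijective _ (rhoLin_bijective F hF hU J')
  have hc : ∀ z, (trans F h).app U (e z) = e' (factorMap (Ideal.map_mono h) Γ(F, U) z) := trans_rho F hF hU h
  refine ⟨fun x hx => ?_, fun x hx hfx => ?_, fun z => ?_, fun z x hz => ?_⟩
  · obtain ⟨z, rfl⟩ := e.surjective x
    obtain ⟨y, hy, hy'⟩ := hl.k1 z (e'.map_eq_zero_iff.1 ((hc z).symm.trans hx))
    exact ⟨e y, (hc y).trans (by rw [hy, map_zero]), by rw [← map_smul, hy']⟩
  · obtain ⟨z, rfl⟩ := e.surjective x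
    rw [← map_smul, e.map_eq_zero_iff] at hfx
    rw [hl.k2 z (e'.map_eq_zero_iff.1 ((hc z).symm.trans hx)) hfx, map_zero]
  · obtain ⟨w, rfl⟩ := e'.surjective z
    obtain ⟨w', x, rfl⟩ := hl.c1 w
    exact ⟨e' w', e x, by rw [map_add, map_smul, ← hc]; rfl⟩
  · obtain ⟨w, rfl⟩ := e'.surjective z
    obtain ⟨y, rfl⟩ := e.surjective x
    obtain ⟨x', hx'⟩ := hl.c2 w y (e'.injective (by rw [map_smul, hz]; exact hc y))
    exact ⟨e x', by rw [hx', ← hc]; rfl⟩

end Groth.Agent.FormalCplLib
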